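import Cfsg.Agent.H24.ND0
import Cfsg.Agent.H24.FrobStruct
import Cfsg.Agent.H4.Dihedral

/-! S4780, chunk DN. -/

set_option autoImplicit false
set_option linter.unusedVariables false

open Subgroup MulAction H19 H20 H6 Cfsg H3.PT H3.GR H3.ND Module H24.ND
open scoped commutatorElement

namespace H10.ND

universe u
variable {G : Type u} [Group G] [Finite G] {P H : Subgroup G} {p : ℕ}

theorem dn_hall (h : PC P H p) : Hall {p}ᶜ H ⊤ := by
  have := h.nP
  refine ⟨le_top, PiN.of_not_dvd h.np, ?_⟩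
  rw [← h.sup, relIndex_sup_right_of_norm (by rw [normalizer_eq_top]; exact le_top)]
  exact (h.pg.relIndex H).compl_compl

theorem dn_sol (h : PC P H p) : Sol (⊤ : Subgroup G) := by
  have := h.nP
  rw [← h.sup]
  exact sol_sup h.pg.sol (sol_of_ab h.ab) (by rw [normalizer_eq_top]; exact le_top)

theorem dn_index (h : PC P H p) {S X : Subgroup G} (hX : Hall {p}ᶜ X S) (hXH : X ≤ H) :
    S.index = (P ⊓ S).relIndex P * X.relIndex H := by
  have := h.nP
  have hn : H ≤ N(P) := by rw [normalizer_eq_top]; exact le_top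
  have hH : PiG {p}ᶜ H := PiN.of_not_dvd h.np
  have e1 : #(⊤ : Subgroup G) = #P * #H := by
    rw [← h.sup]; exact card_sup_of_disjoint hn (h.pg.inf_eq_bot hH)
  have e2 : #(P ⊓ S) * (P ⊓ S).relIndex P = #P := card_mul_relIndex inf_le_left
  have e3 : #X * X.relIndex H = #H := card_mul_relIndex hXH
  have e4 : #(P ⊓ S) * P.relIndex S = #S := card_inf_mul_relIndex P S
  have e5 : #X * X.relIndex S = #S := hX.card_mul
  have e6 : #S * S.index = #(⊤ : Subgroup G) := by
    rw [← relIndex_top_right]; exact card_mul_relIndex le_top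
  have p1 : PiN {p}ᶜ (P.relIndex S) := by
    refine hH.dvd ((relIndex_dvd_index_of_normal P S).trans ?_)
    rw [← relIndex_top_right, ← h.sup, relIndex_sup_of_norm hn]
    exact relIndex_dvd_card P H
  have p2 : PiN {p} (X.relIndex S) := by simpa using hX.idx
  have p3 : PiN {p} #(P ⊓ S) := h.pg.infl S
  have d1 : X.relIndex S ∣ #(P ⊓ S) := p2.dvd_of_dvd_mul p1 (e4 ▸ e5 ▸ Dvd.intro_left _ rfl)
  have d2 : #(P ⊓ S) ∣ X.relIndex S :=
    p3.dvd_of_dvd_mul hX.pi (by rw [mul_comm, e5, ← e4]; exact Dvd.intro _ rfl)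
  have e7 : X.relIndex S = #(P ⊓ S) := Nat.dvd_antisymm d1 d2
  have hp : 0 < #S := card_pos S
  apply Nat.eq_of_mul_eq_mul_left hp
  rw [e6, e1, ← e2, ← e3, ← e5, e7]; ring

section
variable {V : Type u} [AddCommGroup V] [DistribMulAction G V]

theorem dn_conj (h : PC P H p) {v : V} (hv : Ab (stabilizer G v)) :
    ∃ (g : G) (X : Subgroup G), Hall {p}ᶜ X (stabilizer G (g • v)) ∧ X ≤ H := by
  obtain ⟨X, hX⟩ := exists_hall {p}ᶜ (sol_of_ab hv)
  obtain ⟨g, -, hg⟩ := (dn_hall h).cj_le (dn_sol h) le_top hX.pi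
  refine ⟨g, cj g X, ?_, hg⟩
  have : stabilizer G (g • v) = cj g (stabilizer G v) := by
    rw [stabilizer_smul_eq_stabilizer_map_conj]; rfl
  rw [this]; exact hall_cj.2 hX

theorem dn_bot (h : PC P H p) (o : Out P H) {S X : Subgroup G} (hX : Hall {p}ᶜ X S) (hXH : X ≤ H)
    (hS : Ab S) (hV : P ⊓ S ≤ V1 P H)
    (hd : ∀ ψ ∈ Irr P, deg ψ ≠ 1 → dd H ψ ∣ S.index → dd H ψ = S.index) : g2 P ⊓ C(X) = ⊥ := by
  by_contra hne
  obtain ⟨ψ, hψ, h1, hi⟩ := o.inv X hXH hne
  have hab : Ab (P ⊓ S) := ⟨⟨fun a b => Subtype.ext (by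
    have := congrArg Subtype.val (hS.is_comm.comm (⟨a.1, a.2.2⟩ : S) ⟨b.1, b.2.2⟩)
    exact this)⟩⟩
  have hlt := o.lt ψ hψ h1 _ hV hab
  obtain ⟨k, hk⟩ := (h.pg.dvd (irr_deg_dvd hψ)).exists_pow
    (fun e => by have := irr_deg_dvd hψ; rw [e, zero_dvd_iff] at this; exact card_ne_zero P this)
  obtain ⟨l, hl⟩ := (h.pg.relIndex (P ⊓ S)).exists_pow (relIndex_ne_zero' _ _)
  have hdv : deg ψ ∣ (P ⊓ S).relIndex P := by
    rw [hk, hl] at hlt ⊢
    exact pow_dvd_pow _ ((Nat.pow_lt_pow_iff_right h.pr.one_lt).1 hlt).le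
  have hi2 : (H20.inertia H ψ).relIndex H ∣ X.relIndex H := relIndex_dvd_left hi H
  have e := dn_index h hX hXH
  have := hd ψ hψ h1 (by rw [e, dd, mul_comm]; exact mul_dvd_mul hdv hi2)
  rw [e, dd, mul_comm] at this
  have hb : 0 < X.relIndex H := relIndex_pos _ _
  have hle := Nat.le_of_dvd hb hi2
  have : deg ψ * (H20.inertia H ψ).relIndex H < (P ⊓ S).relIndex P * X.relIndex H :=
    Nat.mul_lt_mul_of_lt_of_le hlt hle hb
  omega

theorem dn_cen (h : PC P H p) (hc : P ⊓ C(H) ≤ C(P)) {y : G} (hy : y ∈ P ⊓ C(H)) (g : G) :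
    g * y = y * g := by
  have : (⊤ : Subgroup G) ≤ C[y] := by
    rw [← h.sup]
    refine sup_le (fun x hx => ?_) (fun x hx => ?_)
    · exact mem_centralizer_singleton_iff.2 (mem_centralizer_iff.1 (hc hy) x hx)
    · exact mem_centralizer_singleton_iff.2 (mem_centralizer_iff.1 hy.2 x hx)
  exact mem_centralizer_singleton_iff.1 (this (mem_top g))

theorem dn_stab (h : PC P H p) (o : Out P H)
    (hf : ∀ x ∈ P, x ∉ V1 P H → ∀ v : V, x • v = v → v = 0)
    (hv : ∀ v : V, v ≠ 0 → Ab (stabilizer G v) ∧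
      ∀ ψ ∈ Irr P, deg ψ ≠ 1 → dd H ψ ∣ (stabilizer G v).index → dd H ψ = (stabilizer G v).index)
    {v : V} (h0 : v ≠ 0) : P ⊓ C(H) ≤ C(P) ∧ ∀ y ∈ P, y • v = v → y ∈ P ⊓ C(H) := by
  have := h.nP
  obtain ⟨g, X, hX, hXH⟩ := dn_conj h (hv v h0).1
  have h1 : g • v ≠ 0 := by rwa [ne_eq, smul_eq_zero_iff_eq]
  have hV : P ⊓ stabilizer G (g • v) ≤ V1 P H := fun x hx => by
    by_contra hn; exact h1 (hf x hx.1 hn _ hx.2)
  have hb := dn_bot h o hX hXH (hv _ h1).1 hV (hv _ h1).2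
  have hc : P ⊓ C(H) ≤ C(P) := o.cen (by
    rw [eq_bot_iff, ← hb]; exact inf_le_inf_left _ (centralizer_le hXH))
  refine ⟨hc, fun y hy e => ?_⟩
  have hy' : g * y * g⁻¹ ∈ P ⊓ stabilizer G (g • v) :=
    ⟨this.conj_mem y hy g, mem_stabilizer_iff.2 (by rw [mul_smul, mul_smul, inv_smul_smul, e])⟩
  obtain ⟨w, hw, a, ha, e1⟩ := mem_sup_of_normal_left.1 (hV hy')
  have hw1 : w ∈ g2 P ⊓ C(X) := by
    refine ⟨hw, ?_⟩
    have e2 : w = g * y * g⁻¹ * a⁻¹ := by rw [← e1]; group
    rw [e2]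
    refine mul_mem (mem_centralizer_iff.2 fun x hx => ?_) (C(X).inv_mem (centralizer_le hXH ha.2))
    exact congrArg Subtype.val ((hv _ h1).1.is_comm.comm (⟨x, hX.le hx⟩ : stabilizer G (g • v)) ⟨_, hy'.2⟩)
  rw [hb, mem_bot] at hw1
  rw [hw1, one_mul] at e1
  have e3 : y = a := by
    have := dn_cen h hc ha g
    calc y = g⁻¹ * (g * y * g⁻¹) * g := by group
      _ = g⁻¹ * (a * g) := by rw [← e1]; group
      _ = a := by rw [← this]; group
  rw [e3]; exact ha

/-- the action as automorphisms of the multiplicative copy -/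
def dnAut (G : Type u) [Group G] (V : Type u) [AddCommGroup V] [DistribMulAction G V] :
    G →* MulAut (Multiplicative V) where
  toFun g :=
    { toFun := fun v => Multiplicative.ofAdd (g • v.toAdd)
      invFun := fun v => Multiplicative.ofAdd (g⁻¹ • v.toAdd)
      left_inv := fun v => by simp
      right_inv := fun v => by simp
      map_mul' := fun v w => by simp [smul_add] }
  map_one' := by ext v; simp
  map_mul' a b := by ext v; simp [mul_smul]

omit [Finite G] in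
theorem dnAut_apply (g : G) (v : Multiplicative V) : dnAut G V g v = Multiplicative.ofAdd (g • v.toAdd) := rfl

end

theorem dn_three (h : PC P H p) (a b : G)
    (hk : ∀ y ∈ P, y ∉ V1 P H → a⁻¹ * y ∈ V1 P H ∨ b⁻¹ * y ∈ V1 P H ∨ (a * b)⁻¹ * y ∈ V1 P H) :
    (H ⊓ C(P)).relIndex H ≤ 3 := by
  have := h.nP
  obtain ⟨x, hx, hxV⟩ := SetLike.not_le_iff_exists.1 h.nV
  have hcm : ∀ c ∈ H, ∀ d ∈ H, c * d = d * c := fun c hc d hd =>
    congrArg Subtype.val (h.ab.is_comm.comm (⟨c, hc⟩ : H) ⟨d, hd⟩)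
  have hn : ∀ c ∈ H, ∀ y ∈ V1 P H, c * y * c⁻¹ ∈ V1 P H := by
    intro c hc y hy
    obtain ⟨w, hw, j, hj, rfl⟩ := mem_sup_of_normal_left.1 hy
    have e : c * (w * j) * c⁻¹ = (c * w * c⁻¹) * j := by
      have := mem_centralizer_iff.1 hj.2 c hc
      calc c * (w * j) * c⁻¹ = (c * w * c⁻¹) * (c * j) * c⁻¹ := by group
        _ = _ := by rw [this]; group
    rw [e]
    exact mul_mem (mem_sup_left (Normal.conj_mem inferInstance w hw c)) (mem_sup_right hj)
  have hx2 : ∀ c ∈ H, c * x * c⁻¹ ∉ V1 P H := fun c hc e => hxV (by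
    have := hn c⁻¹ (inv_mem hc) _ e
    rwa [show c⁻¹ * (c * x * c⁻¹) * c⁻¹⁻¹ = x by group] at this)
  have hk' : ∀ c : H, ∃ i : Fin 3, (![a, b, a * b] i)⁻¹ * (c.1 * x * c.1⁻¹) ∈ V1 P H := by
    intro c
    rcases hk _ (this.conj_mem x hx c.1) (hx2 c.1 c.2) with e | e | e
    exacts [⟨0, e⟩, ⟨1, e⟩, ⟨2, e⟩]
  choose F hF using hk'
  have hinj : Function.Injective fun q : H ⧸ (H ⊓ C(P)).subgroupOf H => F q.out := by
    intro q r e
    have e1 := hF q.out
    have e2 := hF r.out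
    simp only at e
    rw [← e] at e2
    have e3 := mul_mem (inv_mem e1) e2
    set c := q.out
    set d := r.out
    have hy : c.1 * x * c.1⁻¹ ∈ P := this.conj_mem x hx _
    have hz : d.1 * x * d.1⁻¹ ∈ P := this.conj_mem x hx _
    have e4 : (d.1 * c.1⁻¹) * (c.1 * x * c.1⁻¹) * (d.1 * c.1⁻¹)⁻¹ * (c.1 * x * c.1⁻¹)⁻¹ ∈ V1 P H := by
      have e5 : ⁅d.1 * x * d.1⁻¹, (c.1 * x * c.1⁻¹)⁻¹⁆ ∈ V1 P H :=
        mem_sup_left (commutator_mem_commutator hz (inv_mem hy))
      have := mul_mem e5 e3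
      rw [commutatorElement_def] at this
      convert this using 1
      group
    have hc : d.1 * c.1⁻¹ ∈ C(P) := by
      by_contra hn'
      exact hx2 c.1 c.2 (h.fp _ (mul_mem d.2 (inv_mem c.2)) hn' _ hy e4)
    rw [← q.out_eq', ← r.out_eq']
    refine QuotientGroup.eq.2 (mem_subgroupOf.2 ⟨(c⁻¹ * d).2, ?_⟩)
    show c.1⁻¹ * d.1 ∈ _
    rw [hcm _ (inv_mem c.2) _ d.2]; exact hc
  simpa [relIndex, index] using Nat.card_le_card_of_injective _ hinj

theorem dn : H24.ND.DN.{u} := by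
  intro G _ _ P H p V _ _ _ _ h o hg hp hs hf hv
  have := h.nP
  have : Fact p.Prime := ⟨h.pr⟩
  have hst := fun (v : V) (h0 : v ≠ 0) =>
    dn_stab h o hf (fun v h0 => ⟨(hv v h0).1, (hv v h0).2.2⟩) h0
  obtain ⟨v0, h0⟩ := exists_ne (0 : V)
  have hc := (hst v0 h0).1
  have htr : ∀ y ∈ P, ∀ v : V, v ≠ 0 → y • v = v → ∀ w : V, y • w = w := by
    intro y hy v hv0 e
    have hJ := (hst v hv0).2 y hy e
    let U : AddSubgroup V :=
      { carrier := {w | y • w = w}
        add_mem' := fun {a b} ha hb => by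
          show y • (a + b) = a + b
          rw [smul_add, show y • a = a from ha, show y • b = b from hb]
        zero_mem' := smul_zero y
        neg_mem' := fun {a} ha => by
          show y • (-a) = -a
          rw [smul_neg, show y • a = a from ha] }
    rcases hs U (fun g w hw => by
      show y • g • w = g • w
      rw [← mul_smul, ← dn_cen h hc hJ g, mul_smul, show y • w = w from hw]) with e1 | e1
    · exact absurd (AddSubgroup.mem_bot.1 (e1 ▸ (show v ∈ U from e))) hv0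
    · intro w; exact show w ∈ U from e1 ▸ AddSubgroup.mem_top w
  let φ := dnAut G V
  have hker : ∀ y ∈ P, ∀ z ∈ P, φ y = φ z → z⁻¹ * y ∈ P ⊓ C(H) := by
    intro y hy z hz e
    refine (hst v0 h0).2 _ (mul_mem (inv_mem hz) hy) ?_
    have := congrArg (fun f : MulAut (Multiplicative V) => (f (Multiplicative.ofAdd v0)).toAdd) e
    simp only [φ, dnAut_apply, toAdd_ofAdd] at this
    rw [mul_smul, this, inv_smul_smul]
  have hA : IsPGroup p (⊤ : Subgroup (P.map φ)) :=
    (h.pg.isPGroup.map φ).to_subgroup ⊤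
  rcases H24.cyclic_or_quaternion_of_fpf (P.map φ).subtype (by
      rintro ⟨_, y, hy, rfl⟩ ha v e
      by_contra hv1
      refine ha (Subtype.ext ?_)
      ext w
      have e1 : y • v.toAdd = v.toAdd := congrArg Multiplicative.toAdd e
      exact htr y hy v.toAdd hv1 e1 w.toAdd) hA with hcy | ⟨h2, n, hn, ⟨e⟩⟩
  · exfalso
    have hcy' : IsCyclic (P.map φ) := isCyclic_of_surjective _ topEquiv.surjective
    obtain ⟨⟨_, a, ha, rfl⟩, hgen⟩ := hcy'.exists_generator
    have hd : ∀ y ∈ P, ∃ j : ℤ, (a ^ j)⁻¹ * y ∈ P ⊓ C(H) := by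
      intro y hy
      obtain ⟨j, hj⟩ := hgen ⟨φ y, y, hy, rfl⟩
      refine ⟨j, hker y hy _ (zpow_mem ha j) ?_⟩
      rw [map_zpow]; exact (congrArg Subtype.val hj).symm
    refine hg (commutator_eq_bot_iff_le_centralizer.2 fun y hy => mem_centralizer_iff.2 fun z hz => ?_)
    obtain ⟨i, hi⟩ := hd y hy
    obtain ⟨j, hj⟩ := hd z hz
    have c1 := dn_cen h hc hi
    have c2 := dn_cen h hc hj
    generalize hs : (a ^ i)⁻¹ * y = s at c1
    generalize ht : (a ^ j)⁻¹ * z = t at c2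
    have ey : y = a ^ i * s := by rw [← hs]; group
    have ez : z = a ^ j * t := by rw [← ht]; group
    rw [ey, ez]
    calc a ^ j * t * (a ^ i * s) = a ^ j * (t * (a ^ i * s)) := by group
      _ = a ^ j * (a ^ i * s * t) := by rw [← c2]
      _ = a ^ i * (a ^ j * s) * t := by group
      _ = _ := by rw [c1]; group
  · obtain ⟨⟨_, a, ha, rfl⟩, ⟨_, b, hb, rfl⟩, -, q2, q3, -, q5⟩ :=
      H4.exists_gens_of_quaternion (topEquiv.symm.trans e)
    have hJV : P ⊓ C(H) ≤ V1 P H := le_sup_right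
    have ha2 : a ^ 2 ∈ V1 P H := by
      have e1 := hJV (hker (b * a * b⁻¹) (mul_mem (mul_mem hb ha) (inv_mem hb)) a⁻¹ (inv_mem ha) (by
        rw [map_mul, map_mul, map_inv, map_inv]; exact congrArg Subtype.val q3))
      have e2 : ⁅b, a⁻¹⁆ ∈ V1 P H := mem_sup_left (commutator_mem_commutator hb (inv_mem ha))
      have := mul_mem e1 e2
      rw [commutatorElement_def] at this
      convert this using 1
      rw [sq]; group
    have ham : ∀ m : ℤ, a ^ (2 * m) ∈ V1 P H := fun m => by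
      rw [zpow_mul]; exact zpow_mem (by exact_mod_cast ha2) m
    have hbm : ∀ m : ℤ, b⁻¹ * a ^ (2 * m) * b ∈ V1 P H := fun m => by
      have e2 : ⁅b⁻¹, a ^ (2 * m)⁆ ∈ V1 P H :=
        mem_sup_left (commutator_mem_commutator (inv_mem hb) (zpow_mem ha _))
      have := mul_mem e2 (ham m)
      rw [commutatorElement_def] at this
      convert this using 1
      group
    have hle := dn_three h a b (by
      intro y hy hyV
      rcases H4.mem_sup_cases (k := -1) (g := (⟨φ y, y, hy, rfl⟩ : P.map φ)) (by rw [zpow_neg_one]; exact q3)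
        (by rw [q2]; exact pow_mem (mem_zpowers _) _) (by rw [q5]; exact mem_top _) with ⟨j, hj⟩ | ⟨j, hj⟩
      · have e1 := hJV (hker y hy (a ^ j) (zpow_mem ha j) (by
          rw [map_zpow]; exact congrArg Subtype.val hj))
        rcases Int.even_or_odd' j with ⟨m, rfl | rfl⟩
        · exact absurd (by simpa using mul_mem (ham m) e1) hyV
        · left
          convert mul_mem (ham m) e1 using 1
          group
      · have e1 := hJV (hker y hy (a ^ j * b) (mul_mem (zpow_mem ha j) hb) (by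
          rw [map_mul, map_zpow]; exact congrArg Subtype.val hj))
        rcases Int.even_or_odd' j with ⟨m, rfl | rfl⟩
        · right; left
          convert mul_mem (hbm m) e1 using 1
          group
        · right; right
          convert mul_mem (hbm m) e1 using 1
          group)
    have hne : (H ⊓ C(P)).relIndex H ≠ 1 := fun e => (hv v0 h0).2.1 (e ▸ one_dvd _)
    have hodd : ¬ 2 ∣ (H ⊓ C(P)).relIndex H := fun e => h.np (h2 ▸ e.trans (relIndex_dvd_card _ _))
    have hpos := relIndex_pos (H ⊓ C(P)) H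
    have : (H ⊓ C(P)).relIndex H = 3 := by omega
    rw [this]; norm_num

end H10.ND
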